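import Groth.Agent.H29Serre.Pairing
import Groth.Agent.H10Coh.Proj.Coherent
import Groth.Agent.H11Tilde.TwistQuot
import Groth.Agent.H10Coh.Proper2

/-!
# Duality in the top degree on projective space
-/

set_option autoImplicit false

universe u

open CategoryTheory CategoryTheory.Limits AlgebraicGeometry TopologicalSpace Opposite
open Groth.Agent.H10Coh

namespace Groth.Agent.H29Serre

attribute [local instance 10000] hasSheafifyAb hasWeakSheafifyAb hasExtAb enoughInjAb

section formal

variable {R : Type u} [CommRing R] {X : Scheme.{u}} [X.Over (Spec (CommRingCat.of R))] {q : ℕ}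
  {ω : X.Modules}

theorem lin_comp {F G H : X.Modules} (φ : F ⟶ G) (ψ : G ⟶ H) :
    Canon.HHlin R (φ ≫ ψ) q = Canon.HHlin R ψ q ∘ₗ Canon.HHlin R φ q := by
  refine LinearMap.ext fun x => ?_
  show Sheaf.H.map ((shF X).map (φ ≫ ψ)) q x = _
  rw [Functor.map_comp, Sheaf.H.map_comp_apply]
  rfl

theorem lin_add {F G : X.Modules} (φ ψ : F ⟶ G) :
    Canon.HHlin R (φ + ψ) q = Canon.HHlin R φ q + Canon.HHlin R ψ q := by
  refine LinearMap.ext fun x => ?_
  show Sheaf.H.map ((shF X).map (φ + ψ)) q x = _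
  rw [Functor.map_add]
  exact Sheaf.H.map_add_apply _ _ _

theorem lin_zero {F G : X.Modules} : Canon.HHlin R (0 : F ⟶ G) q = 0 := by
  have h := lin_add (R := R) (q := q) (0 : F ⟶ G) 0
  rw [add_zero] at h
  simpa using h

theorem lin_id (F : X.Modules) : Canon.HHlin R (𝟙 F) q = LinearMap.id := by
  refine LinearMap.ext fun x => ?_
  show Sheaf.H.map ((shF X).map (𝟙 F)) q x = x
  rw [CategoryTheory.Functor.map_id, Sheaf.H.map_id_apply]

theorem lin_sum {ι : Type} (S : Finset ι) {F G : X.Modules} (φ : ι → (F ⟶ G)) :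
    Canon.HHlin R (∑ i ∈ S, φ i) q = ∑ i ∈ S, Canon.HHlin R (φ i) q :=
  map_sum (AddMonoidHom.mk' (fun ψ : F ⟶ G => Canon.HHlin R ψ q) fun a b => lin_add a b) φ S

/-- `(ω, t)` represents the dual of `H^q` at `F`. -/
def RepDual (t : Coh.HH X ω q →ₗ[R] R) (F : X.Modules) : Prop :=
  ∀ ψ : Coh.HH X F q →ₗ[R] R, ∃! φ : F ⟶ ω, ψ = t ∘ₗ Canon.HHlin R φ q

variable {t : Coh.HH X ω q →ₗ[R] R}

theorem repDual_sigma {ι : Type} [Finite ι] (G : ι → X.Modules) (h : ∀ i, RepDual t (G i)) :
    RepDual t (∐ G) := by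
  classical
  have := Fintype.ofFinite ι
  intro ψ
  choose φ hφ huniq using fun i => h i (ψ ∘ₗ Canon.HHlin R (Sigma.ι G i) q)
  let pr : ∀ i, (∐ G) ⟶ G i := fun i =>
    Sigma.desc fun j => if e : j = i then eqToHom (congrArg G e) else 0
  have htot : ∑ i, pr i ≫ Sigma.ι G i = 𝟙 (∐ G) := by
    refine Sigma.hom_ext _ _ fun j => ?_
    rw [Preadditive.comp_sum, Category.comp_id, Finset.sum_eq_single j ?_ (fun h => (h (Finset.mem_univ j)).elim)]
    · rw [Sigma.ι_desc_assoc, dif_pos rfl, eqToHom_refl, Category.id_comp]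
    · intro i _ hi
      rw [Sigma.ι_desc_assoc, dif_neg fun e => hi e.symm, zero_comp]
  refine ⟨Sigma.desc φ, LinearMap.ext fun x => ?_, fun φ' hφ' => Sigma.hom_ext _ _ fun i => ?_⟩
  · have hx : x = ∑ i, Canon.HHlin R (Sigma.ι G i) q (Canon.HHlin R (pr i) q x) := by
      have e := congrArg (fun l : Coh.HH X (∐ G) q →ₗ[R] Coh.HH X (∐ G) q => l x)
        ((lin_sum (R := R) (q := q) Finset.univ fun i => pr i ≫ Sigma.ι G i).symm.trans
          ((congrArg (fun f : (∐ G) ⟶ ∐ G => Canon.HHlin R f q) htot).trans (lin_id _)))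
      simp only [LinearMap.coe_sum, Finset.sum_apply, lin_comp, LinearMap.comp_apply, LinearMap.id_apply] at e
      exact e.symm
    rw [hx, map_sum, map_sum]
    refine Finset.sum_congr rfl fun i _ => ?_
    change (ψ ∘ₗ Canon.HHlin R (Sigma.ι G i) q) _ = _
    rw [hφ i, LinearMap.comp_apply, LinearMap.comp_apply, ← LinearMap.comp_apply (f := Canon.HHlin R (Sigma.desc φ) q),
      ← lin_comp, Sigma.ι_desc]
  · rw [Sigma.ι_desc]
    exact huniq i _ (by dsimp only; rw [hφ', LinearMap.comp_assoc, lin_comp])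

/-- Representability passes to a cokernel presentation on which `H^q` is right exact. -/
theorem repDual_of_presentation {G' G F : X.Modules} (r : G' ⟶ G) (p : G ⟶ F) (w : r ≫ p = 0)
    (hlim : IsColimit (CokernelCofork.ofπ p w))
    (hsurj : Function.Surjective (Canon.HHlin R p q))
    (hex : LinearMap.ker (Canon.HHlin R p q) ≤ LinearMap.range (Canon.HHlin R r q))
    (hG : RepDual t G) (hG' : RepDual t G') : RepDual t F := by
  intro ψ
  obtain ⟨φ, hφ, huniq⟩ := hG (ψ ∘ₗ Canon.HHlin R p q)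
  have hr : r ≫ φ = 0 := by
    obtain ⟨φ', -, hu⟩ := hG' 0
    have h1 := hu (r ≫ φ) (by
      dsimp only
      rw [lin_comp, ← LinearMap.comp_assoc, ← hφ, LinearMap.comp_assoc, ← lin_comp, w, lin_zero,
        LinearMap.comp_zero])
    have h2 := hu 0 (by dsimp only; rw [lin_zero, LinearMap.comp_zero])
    rw [h1, h2]
  obtain ⟨χ, hχ⟩ := CokernelCofork.IsColimit.desc' hlim φ hr
  change p ≫ χ = φ at hχ
  refine ⟨χ, LinearMap.ext fun y => ?_, fun χ' hχ' => ?_⟩
  · obtain ⟨x, rfl⟩ := hsurj y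
    have e := congrArg (fun l : Coh.HH X G q →ₗ[R] R => l x) hφ
    simp only [LinearMap.comp_apply] at e ⊢
    rw [e, ← hχ, lin_comp, LinearMap.comp_apply]
  · haveI : Epi p := Cofork.IsColimit.epi hlim
    rw [← cancel_epi p, hχ]
    exact huniq _ (by dsimp only; rw [hχ', LinearMap.comp_assoc, lin_comp])

set_option backward.isDefEq.respectTransparency false in
theorem exact_lin {S : ShortComplex X.Modules} (hS : S.ShortExact) :
    LinearMap.ker (Canon.HHlin R S.g q) ≤ LinearMap.range (Canon.HHlin R S.f q) :=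
  fun x hx => Abelian.Ext.covariant_sequence_exact₂ _ (shortExact_sh hS) x hx

theorem surjective_lin {S : ShortComplex X.Modules} (hS : S.ShortExact)
    (h : Subsingleton (Coh.HH X S.X₁ (q + 1))) : Function.Surjective (Canon.HHlin R S.g q) := fun x =>
  Abelian.Ext.covariant_sequence_exact₃ _ (shortExact_sh hS) x (n₁ := q + 1) rfl (h.elim _ _)

/-- Representability from a presentation by representable modules. -/
theorem repDual_of_cover {G' G F : X.Modules} (p : G ⟶ F) [Epi p] (p' : G' ⟶ kernel p) [Epi p']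
    (hK : Subsingleton (Coh.HH X (kernel p) (q + 1))) (hK' : Subsingleton (Coh.HH X (kernel p') (q + 1)))
    (hG : RepDual t G) (hG' : RepDual t G') : RepDual t F := by
  have hS : (ShortComplex.mk (kernel.ι p) p (kernel.condition p)).ShortExact :=
    { exact := ShortComplex.exact_of_f_is_kernel _ (kernelIsKernel p) }
  have hS' : (ShortComplex.mk (kernel.ι p') p' (kernel.condition p')).ShortExact :=
    { exact := ShortComplex.exact_of_f_is_kernel _ (kernelIsKernel p') }
  have w : (p' ≫ kernel.ι p) ≫ p = 0 := by rw [Category.assoc, kernel.condition, comp_zero]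
  have hc₀ : IsColimit (CokernelCofork.ofπ (f := kernel.ι p) p (kernel.condition p)) := hS.exact.gIsCokernel
  have hc : IsColimit (CokernelCofork.ofπ (f := p' ≫ kernel.ι p) p w) :=
    CokernelCofork.IsColimit.ofπ p w
      (fun g hg => (CokernelCofork.IsColimit.desc' hc₀ g (by
        rw [← cancel_epi p', comp_zero, ← Category.assoc]
        exact hg)).1)
      (fun g hg => (CokernelCofork.IsColimit.desc' hc₀ g _).2)
      (fun g hg m hm => by
        haveI : Epi p := inferInstance
        rw [← cancel_epi p, hm]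
        exact (CokernelCofork.IsColimit.desc' hc₀ g _).2.symm)
  have hs : Function.Surjective (Canon.HHlin R p q) :=
    surjective_lin (R := R) (q := q) (S := ShortComplex.mk (kernel.ι p) p (kernel.condition p)) hS hK
  have hs' : Function.Surjective (Canon.HHlin R p' q) :=
    surjective_lin (R := R) (q := q) (S := ShortComplex.mk (kernel.ι p') p' (kernel.condition p')) hS' hK'
  have he : LinearMap.ker (Canon.HHlin R p q) ≤ LinearMap.range (Canon.HHlin R (kernel.ι p) q) :=
    exact_lin (R := R) (q := q) (S := ShortComplex.mk (kernel.ι p) p (kernel.condition p)) hS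
  refine repDual_of_presentation (p' ≫ kernel.ι p) p w hc hs ?_ hG hG'
  intro x hx
  obtain ⟨y, rfl⟩ := he hx
  obtain ⟨z, rfl⟩ := hs' y
  exact ⟨z, by rw [lin_comp]; rfl⟩

end formal

variable {R : Type u} [CommRing R] [IsNoetherianRing R] (n : ℕ)

noncomputable local instance overProj' (n : ℕ) (R : Type u) [CommRing R] :
    (Proj (Pn.Gr n R)).Over (Spec (CommRingCat.of R)) := ⟨Pn.toS n R⟩

theorem subsingleton_HH_above (M : (Proj (Pn.Gr n R)).Modules) (hM : Coh.IsQCoh M) :
    Subsingleton (Coh.HH (Proj (Pn.Gr n R)) M (n + 1)) :=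
  @Equiv.subsingleton _ _ (HHEquiv M (n + 1)).toEquiv
    (@Pn.subsingleton_HnM_proj n R _ M hM (n + 1) (Nat.lt_succ_self n))

theorem repDual_twist (m : ℕ) :
    RepDual (X := Proj (Pn.Gr n R)) (q := n) (trace n R) (Pn.Od n R (tw n m)) :=
  fun ψ => existsUnique_pairing ψ

omit [IsNoetherianRing R] in
theorem irrelevant_eq_span_X :
    (HomogeneousIdeal.irrelevant (Pn.Gr n R)).toIdeal =
      Ideal.span (↑(Set.finite_range (MvPolynomial.X : Fin (n + 1) → MvPolynomial (Fin (n + 1)) R)).toFinset :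
        Set (MvPolynomial (Fin (n + 1)) R)) := by
  rw [Set.Finite.coe_toFinset]
  refine le_antisymm (H11Proj.ProjSpace.irrelevant_le_span n R) (Ideal.span_le.2 ?_)
  rintro _ ⟨i, rfl⟩
  exact HomogeneousIdeal.mem_irrelevant_of_mem _ one_pos (H11Proj.ProjSpace.X_mem n R i)

omit [IsNoetherianRing R] in
/-- A coherent module on `P^n` is a quotient of copies of a very negative twist. -/
theorem exists_epi_negative (F : (Proj (Pn.Gr n R)).Modules) (hF : Coh.IsCoh F) :
    ∃ (r m : ℕ) (p : (∐ fun _ : Fin r => Pn.Od n R (tw n m)) ⟶ F), Epi p := by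
  obtain ⟨n₀, h⟩ := H11Tilde.eventually_quotient_negative_twists (Pn.Gr n R)
    (Set.finite_range (MvPolynomial.X : Fin (n + 1) → MvPolynomial (Fin (n + 1)) R)).toFinset
    (fun f hf => by
      obtain ⟨i, rfl⟩ := (Set.Finite.mem_toFinset _).1 hf
      exact H11Proj.ProjSpace.X_mem n R i)
    (irrelevant_eq_span_X n) F hF.1 hF.2
  obtain ⟨r, hr⟩ := h (n + 1 + n₀) (by omega)
  rw [show -((n + 1 + n₀ : ℕ) : ℤ) = tw n n₀ by unfold tw; push_cast; ring] at hr
  exact ⟨r, n₀, hr⟩

/-- `O(-n-1)` represents the dual of the top cohomology of coherent modules. -/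
theorem repDual_coherent (F : (Proj (Pn.Gr n R)).Modules) (hF : Coh.IsCoh F) :
    RepDual (X := Proj (Pn.Gr n R)) (q := n) (trace n R) F := by
  haveI : IsNoetherian (Proj (Pn.Gr n R)) := ProjQ.isNoetherian_proj (Pn.Gr n R)
  have hG : ∀ r m, Coh.IsCoh (∐ fun _ : Fin r => Pn.Od n R (tw n m)) := fun r m =>
    isCoh_sigma _ fun _ => ProjQ.isCoh_tilde_twist (Pn.Gr n R) _
  obtain ⟨r, m, p, hp⟩ := exists_epi_negative n F hF
  have hK : Coh.IsCoh (kernel p) := isCoh_kernel p (hG r m) hF.1
  obtain ⟨r', m', p', hp'⟩ := exists_epi_negative n _ hK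
  have hK' : Coh.IsCoh (kernel p') := isCoh_kernel p' (hG r' m') hK.1
  have h₁ : RepDual (X := Proj (Pn.Gr n R)) (q := n) (trace n R) (∐ fun _ : Fin r => Pn.Od n R (tw n m)) :=
    repDual_sigma _ fun _ => repDual_twist n m
  have h₂ : RepDual (X := Proj (Pn.Gr n R)) (q := n) (trace n R) (∐ fun _ : Fin r' => Pn.Od n R (tw n m')) :=
    repDual_sigma _ fun _ => repDual_twist n m'
  exact repDual_of_cover p p' (subsingleton_HH_above n _ hK.1) (subsingleton_HH_above n _ hK'.1) h₁ h₂

end Groth.Agent.H29Serre
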