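import Groth.Agent.H10Coh.Pn.TopShift

/-!
# Multiplication by homogeneous polynomials between twisting sheaves on projective space
-/

set_option autoImplicit false

universe u

open CategoryTheory CategoryTheory.Limits AlgebraicGeometry TopologicalSpace Opposite MvPolynomial
open Groth.Agent.H11Tilde Groth.Agent.H10Coh Groth.Agent.H10Coh.Pn

namespace Groth.Agent.H29Serre

section general

variable {A σ : Type u} [CommRing A] [SetLike σ A] [AddSubgroupClass σ A] (𝒜 : ℕ → σ) [GradedRing 𝒜]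
variable {M τ : Type u} [AddCommGroup M] [Module A M] [SetLike τ M] [AddSubgroupClass τ M] (ℳ : ℕ → τ)
  [SetLike.GradedSMul 𝒜 ℳ]

/-- A ring element in the local ring at a point. -/
noncomputable abbrev cst (a : A) (x : ProjectiveSpectrum 𝒜) : GrTwist.Loc 𝒜 x :=
  Localization.mk a (1 : x.asHomogeneousIdeal.toIdeal.primeCompl)

/-- Multiplication by a homogeneous element, as a morphism. -/
noncomputable def smulHom {d : ℕ} (a : 𝒜 d) (m : ℤ) :
    GrMod.tilde 𝒜 ℳ m ⟶ GrMod.tilde 𝒜 ℳ (m + d) :=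
  ⟨PresheafOfModules.homMk
    { app := fun U => AddCommGrpCat.ofHom (GrMod.smulSect 𝒜 ℳ a m U)
      naturality := fun _ _ _ => rfl }
    fun U r s => sect_ext 𝒜 ℳ fun x => by
      change cst 𝒜 (a : A) x.1 •
        ((r.1 x).val • ((s.1 x : GrMod.tildeAt 𝒜 ℳ m x.1) : GrMod.LocMod 𝒜 (M := M) x.1)) =
        (r.1 x).val • (cst 𝒜 (a : A) x.1 •
        ((s.1 x : GrMod.tildeAt 𝒜 ℳ m x.1) : GrMod.LocMod 𝒜 (M := M) x.1))
      exact smul_comm (cst 𝒜 (a : A) x.1) _ _⟩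

theorem sval_smulHom {d : ℕ} (a : 𝒜 d) (m : ℤ) {U : (Proj 𝒜).Opens} (s : Γ(GrMod.tilde 𝒜 ℳ m, U))
    (x : U) : sval 𝒜 ℳ (((smulHom 𝒜 ℳ a m).app U).hom s) x =
      cst 𝒜 (a : A) x.1 •
        sval 𝒜 ℳ s x := rfl

end general

variable {n : ℕ} {R : Type u} [CommRing R]

/-- Multiplication by `f`, homogeneous of degree `e`. -/
noncomputable def mulHom {a b : ℤ} {e : ℕ} (f : ↥(homogeneousSubmodule (Fin (n + 1)) R e))
    (h : a + e = b) : Od n R a ⟶ Od n R b :=
  smulHom (Gr n R) (Gr n R) (⟨f.1, f.2⟩ : Gr n R e) a ≫ eqToHom (congrArg (Od n R) h)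

theorem psi_mulHom {a b : ℤ} {e : ℕ} (f : ↥(homogeneousSubmodule (Fin (n + 1)) R e)) (h : a + e = b)
    {q₀ : Fin (n + 1) →₀ ℕ} (hpos : 0 < q₀.degree) (s : Γ(Od n R a, Dm q₀)) :
    psi hpos (((mulHom f h).app (Dm q₀)).hom s) = toL n R f.1 * psi hpos s := by
  subst h
  rw [mulHom, eqToHom_refl, Category.comp_id]
  obtain ⟨i, m, q, hq, hm, hd, hz, hv⟩ := isRep_psi hpos s
  rw [hz]
  refine psi_eq hpos ⟨e + i, f.1 * m, q, hq,
    SetLike.mul_mem_graded (show f.1 ∈ Gr n R e from f.2) hm,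
    by push_cast; omega, by rw [map_mul, mul_assoc], fun x => ?_⟩
  refine (sval_smulHom (Gr n R) (Gr n R) (⟨f.1, f.2⟩ : Gr n R e) a s x).trans ?_
  rw [hv x]
  refine (LocalizedModule.mk_smul_mk _ _ _ _).trans ?_
  exact fracAt_congr (Gr n R) x.1 _ _ rfl (one_mul _)

end Groth.Agent.H29Serre

namespace Groth.Agent.H29Serre

variable {n : ℕ} {R : Type u} [CommRing R]

/-- The coordinate charts. -/
noncomputable abbrev ch1 (i : Fin (n + 1)) : Fin (n + 1) →₀ ℕ := qa (fun _ : Fin 1 => i)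

theorem mon_ch1 (i : Fin (n + 1)) : (mon (ch1 i) : MvPolynomial (Fin (n + 1)) R) = X i := by
  rw [mon_qa, Fin.prod_univ_one]

theorem app_smul {a b : ℤ} (φ : Od n R a ⟶ Od n R b) {U : (Proj (Gr n R)).Opens}
    (c : Γ(Proj (Gr n R), U)) (s : Γ(Od n R a, U)) : (φ.app U).hom (c • s) = c • (φ.app U).hom s :=
  Scheme.Modules.Hom.app_smul φ c s

theorem app_res {a b : ℤ} (φ : Od n R a ⟶ Od n R b) {U V : (Proj (Gr n R)).Opens}
    (h : V ≤ U) (s : Γ(Od n R a, U)) :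
    (φ.app V).hom ((Od n R a).presheaf.map (homOfLE h).op s) =
      (Od n R b).presheaf.map (homOfLE h).op ((φ.app U).hom s) :=
  ConcreteCategory.congr_hom (φ.mapPresheaf.naturality (homOfLE h).op) s

theorem exists_psi_smul {q₀ : Fin (n + 1) →₀ ℕ} (hpos : 0 < q₀.degree)
    (c : Γ(Proj (Gr n R), Dm q₀)) :
    ∃ z : L n R, ∀ (d : ℤ) (s : Γ(Od n R d, Dm q₀)), psi hpos (c • s) = z * psi hpos s := by
  have h1 : (1 : MvPolynomial (Fin (n + 1)) R) ∈ Gr n R 0 := SetLike.one_mem_graded _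
  let one : Γ(Od n R 0, Dm q₀) :=
    secOf (Gr n R) (Gr n R) h1 h1 (fun x _ => one_notMem (Gr n R) x) (by simp)
  obtain ⟨i, m, q, hq, hm, hd, hz, hv⟩ := isRep_psi hpos (c • one)
  refine ⟨psi hpos (c • one), fun d s => ?_⟩
  obtain ⟨i', m', q', hq', hm', hd', hz', hv'⟩ := isRep_psi hpos s
  have hne : ∀ x ∈ Dm q₀, mon (R := R) (q + q') ∉ x.asHomogeneousIdeal := fun x hx => by
    rw [← mon_mul]; exact mul_notMem (Gr n R) (hq x hx) (hq' x hx)
  rw [hz']
  refine psi_eq hpos ⟨i + i', m * m', q + q', hne, SetLike.mul_mem_graded hm hm', ?_, ?_, fun x => ?_⟩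
  · simp only [map_add, Nat.cast_add]; omega
  · rw [hz, map_mul, map_add, neg_add, ← T_mul]
    ring
  · rw [sval_smul, hv' x]
    have h := hv x
    rw [sval_smul] at h
    have hc : fval (Gr n R) c x = fracAt (Gr n R) x.1 m (mon q) (hq x.1 x.2) := by
      refine Eq.trans ?_ h
      change _ = fval (Gr n R) c x •
        fracAt (Gr n R) x.1 (1 : MvPolynomial (Fin (n + 1)) R) 1 (one_notMem (Gr n R) x.1)
      rw [show fracAt (Gr n R) x.1 (1 : MvPolynomial (Fin (n + 1)) R) 1 (one_notMem (Gr n R) x.1) =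
        (1 : GrTwist.Loc (Gr n R) x.1) from Localization.mk_one, smul_eq_mul, mul_one]
    rw [hc]
    refine (LocalizedModule.mk_smul_mk _ _ _ _).trans ?_
    exact fracAt_congr (Gr n R) x.1 _ _ rfl (mon_mul q q')

/-- The Laurent exponent of the generator of `O(a)` on the `i`-th chart. -/
noncomputable abbrev genE (a : ℤ) (i : Fin (n + 1)) : Expo n := Finsupp.single i a

theorem exists_gen (a : ℤ) (i : Fin (n + 1)) : ∃ g : Γ(Od n R a, Dm (ch1 i)),
    psi (degree_qa_pos (fun _ : Fin 1 => i)) g = T (genE a i) ∧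
      ∀ (V : (Proj (Gr n R)).Opens) (hV : V ≤ Dm (ch1 i)),
        Function.Bijective fun c : Γ(Proj (Gr n R), V) => c • (Od n R a).presheaf.map (homOfLE hV).op g := by
  have hq : ∀ k : ℕ, ∀ x ∈ Dm (R := R) (ch1 i), (X i : MvPolynomial (Fin (n + 1)) R) ^ k ∉ x.asHomogeneousIdeal :=
    fun k x hx => pow_notMem (Gr n R) (show (X i : MvPolynomial (Fin (n + 1)) R) ∉ x.asHomogeneousIdeal by
      rw [← mon_ch1 i]; exact hx) k
  have hX : ∀ k : ℕ, (X i : MvPolynomial (Fin (n + 1)) R) ^ k ∈ Gr n R k := fun k => isHomogeneous_X_pow i k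
  have hXm : ∀ k : ℕ, (X i : MvPolynomial (Fin (n + 1)) R) ^ k = mon (Finsupp.single i k) := fun k =>
    X_pow_eq_monomial
  have hd : ((a.toNat : ℕ) : ℤ) = ((-a).toNat : ℕ) + a := by omega
  refine ⟨secOf (Gr n R) (Gr n R) (hX a.toNat) (hX (-a).toNat) (fun x hx => hq _ x hx) hd, ?_, fun V hV => ?_⟩
  · refine psi_eq _ ⟨a.toNat, X i ^ a.toNat, Finsupp.single i (-a).toNat,
      fun x hx => by rw [← hXm]; exact hq _ x hx, hX _, by rw [Finsupp.degree_single]; exact hd,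
      ?_, fun x => fracAt_congr (Gr n R) x.1 (hq _ x.1 x.2) _ rfl (hXm _)⟩
    rw [hXm, toL_mon, T_mul]
    refine congrArg T (Finsupp.ext fun j => ?_)
    simp only [Finsupp.add_apply, Finsupp.neg_apply, castE_apply, genE, Finsupp.single_apply]
    split_ifs <;> omega
  · exact bijective_smul_gen (Gr n R) (hX a.toNat) (hX (-a).toNat) (fun x hx => hq _ x (hV hx))
      (fun x hx => hq _ x (hV hx)) hd _ fun x => rfl

theorem Dm_ch1_mono {q₀ : Fin (n + 1) →₀ ℕ} {i : Fin (n + 1)} (h : 0 < q₀ i) :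
    Dm (R := R) q₀ ≤ Dm (ch1 i) := fun x hx => by
  change mon _ ∉ x.asHomogeneousIdeal at hx ⊢
  intro hi
  apply hx
  have e : Finsupp.single i 1 + (q₀ - Finsupp.single i 1) = q₀ :=
    add_tsub_cancel_of_le (Finsupp.single_le_iff.2 h)
  rw [← e, ← mon_mul]
  refine x.asHomogeneousIdeal.toIdeal.mul_mem_right _ ?_
  rwa [show ch1 i = Finsupp.single i 1 from Fin.sum_univ_one _] at hi

/-- Morphisms agreeing on the chart generators are equal. -/
theorem hom_ext_gen {a b : ℤ} {φ ψ : Od n R a ⟶ Od n R b}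
    (h : ∀ (i : Fin (n + 1)) (g : Γ(Od n R a, Dm (ch1 i))),
      psi (degree_qa_pos (fun _ : Fin 1 => i)) g = T (genE a i) →
      (φ.app (Dm (ch1 i))).hom g = (ψ.app (Dm (ch1 i))).hom g) : φ = ψ := by
  refine Scheme.Modules.hom_ext _ _ fun U => ConcreteCategory.hom_ext _ _ fun s => ?_
  refine sval_ext (Gr n R) (Gr n R) fun x => ?_
  obtain ⟨j, hj⟩ : ∃ j, x.1 ∈ Us n R j := by
    have hx : x.1 ∈ (⊤ : (Proj (Gr n R)).Opens) := trivial
    rw [← iSup_Us] at hx
    exact Opens.mem_iSup.1 hx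
  let i := j.down
  have hxi : x.1 ∈ Dm (R := R) (ch1 i) := by
    change mon _ ∉ x.1.asHomogeneousIdeal
    rw [mon_ch1]
    exact hj
  obtain ⟨g, hg, hbij⟩ := exists_gen (R := R) a i
  obtain ⟨c, hc⟩ := (hbij (U ⊓ Dm (ch1 i)) inf_le_right).2
    ((Od n R a).presheaf.map (homOfLE inf_le_left).op s)
  have e1 : ∀ χ : Od n R a ⟶ Od n R b,
      (Od n R b).presheaf.map (homOfLE (inf_le_left : U ⊓ Dm (ch1 i) ≤ U)).op ((χ.app U).hom s) =
        c • (Od n R b).presheaf.map (homOfLE (inf_le_right : U ⊓ Dm (ch1 i) ≤ Dm (ch1 i))).op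
          ((χ.app (Dm (ch1 i))).hom g) := fun χ => by
    rw [← app_res χ, ← hc, app_smul, app_res χ]
  have e2 : (Od n R b).presheaf.map (homOfLE (inf_le_left : U ⊓ Dm (ch1 i) ≤ U)).op ((φ.app U).hom s) =
      (Od n R b).presheaf.map (homOfLE (inf_le_left : U ⊓ Dm (ch1 i) ≤ U)).op ((ψ.app U).hom s) := by
    rw [e1 φ, e1 ψ, h i g hg]
  exact congrArg (fun t => sval (Gr n R) (Gr n R) (U := U ⊓ Dm (ch1 i)) t ⟨x.1, ⟨x.2, hxi⟩⟩) e2

/-- Every morphism between twisting sheaves is, in Laurent expansions, multiplication by a fixed Laurent polynomial. -/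
theorem exists_laurent {a b : ℤ} (φ : Od n R a ⟶ Od n R b) :
    ∃ h : L n R, (∀ i, h ∈ allowedSub R (b - a) {i}) ∧
      ∀ (i : Fin (n + 1)) (g : Γ(Od n R a, Dm (ch1 i))),
        psi (degree_qa_pos (fun _ : Fin 1 => i)) ((φ.app (Dm (ch1 i))).hom g) =
          h * psi (degree_qa_pos (fun _ : Fin 1 => i)) g := by
  choose g hg hbij using exists_gen (R := R) (n := n) a
  let h : Fin (n + 1) → L n R := fun i =>
    psi (degree_qa_pos (fun _ : Fin 1 => i)) ((φ.app (Dm (ch1 i))).hom (g i)) * T (-genE a i)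
  have key : ∀ (i : Fin (n + 1)) {q₀ : Fin (n + 1) →₀ ℕ} (hpos : 0 < q₀.degree)
      (hle : Dm (R := R) q₀ ≤ Dm (ch1 i)) (s : Γ(Od n R a, Dm q₀)),
      psi hpos ((φ.app (Dm q₀)).hom s) = h i * psi hpos s := by
    intro i q₀ hpos hle s
    obtain ⟨c, rfl⟩ := (hbij i _ hle).2 s
    obtain ⟨z, hz⟩ := exists_psi_smul hpos c
    rw [app_smul, app_res, hz, hz, psi_res (degree_qa_pos (fun _ : Fin 1 => i)) hpos hle,
      psi_res (degree_qa_pos (fun _ : Fin 1 => i)) hpos hle, hg]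
    change _ = psi _ _ * T (-genE a i) * (z * T (genE a i))
    rw [show ∀ x y w v : L n R, x * y * (w * v) = w * (x * (y * v)) from fun x y w v => by ring,
      T_mul, neg_add_cancel, T_zero, mul_one]
  have heq : ∀ i j, h i = h j := by
    intro i j
    let c : Fin 2 → Fin (n + 1) := ![i, j]
    have hi : Dm (R := R) (qa c) ≤ Dm (ch1 i) := Dm_ch1_mono ((qa_pos_iff c i).2 ⟨0, rfl⟩)
    have hj : Dm (R := R) (qa c) ≤ Dm (ch1 j) := Dm_ch1_mono ((qa_pos_iff c j).2 ⟨1, rfl⟩)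
    let s := (Od n R a).presheaf.map (homOfLE hj).op (g j)
    have e := (key i (degree_qa_pos c) hi s).symm.trans (key j (degree_qa_pos c) hj s)
    refine T_mul_cancel (genE a j) _ _ ?_
    rwa [psi_res (degree_qa_pos (fun _ : Fin 1 => j)) (degree_qa_pos c) hj, hg] at e
  refine ⟨h 0, fun i => ?_, fun i s => heq i 0 ▸ key i _ le_rfl s⟩
  rw [heq 0 i]
  intro e he
  have hm := psi_mem (degree_qa_pos (fun _ : Fin 1 => i)) ((φ.app (Dm (ch1 i))).hom (g i))
  have e2 : (h i).coeff e =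
      (psi (degree_qa_pos (fun _ : Fin 1 => i)) ((φ.app (Dm (ch1 i))).hom (g i))).coeff (e + genE a i) := by
    rw [show h i = _ * T (-genE a i) from rfl]
    conv_lhs => rw [show e = e + genE a i + -genE a i by abel]
    simp [T]
  obtain ⟨h1, h2⟩ := hm _ (e2 ▸ he)
  refine ⟨?_, fun j hj => ?_⟩
  · rw [deg_add, show deg (genE a i) = a by simp [deg, genE, Finsupp.single_apply]] at h1
    omega
  · have := h2 j (by rw [Set.mem_ofPred_eq, qa_pos_iff]; rintro ⟨k, hk⟩; exact hj hk.symm)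
    simp [genE, show j ≠ i from hj] at this
    exact this

theorem mem_allowedSub_empty {e : ℕ} {h : L n R} (hmem : ∀ i, h ∈ allowedSub R (e : ℤ) {i}) :
    h ∈ allowedSub R (e : ℤ) (∅ : Set (Fin (n + 1))) := fun x hx => by
  refine ⟨(hmem 0 x hx).1, fun j _ => ?_⟩
  by_cases hn : n = 0
  · subst hn
    have h1 := (hmem 0 x hx).1
    rw [deg, Fin.sum_univ_one] at h1
    rw [show j = 0 from Fin.ext (by omega), h1]
    omega
  · obtain ⟨k, hk⟩ : ∃ k : Fin (n + 1), k ≠ j := by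
      refine Fintype.exists_ne_of_one_lt_card ?_ j
      simp only [Fintype.card_fin]
      omega
    exact (hmem k x hx).2 j (Ne.symm hk)

theorem exists_homog {e : ℕ} {h : L n R} (hh : h ∈ allowedSub R (e : ℤ) (∅ : Set (Fin (n + 1)))) :
    ∃ f : ↥(homogeneousSubmodule (Fin (n + 1)) R e), toL n R f.1 = h :=
  (homToAllowed_bijective e).2 ⟨h, hh⟩ |>.imp fun _ hf => congrArg Subtype.val hf

theorem eq_mulHom_of {a b : ℤ} {e : ℕ} (hab : a + e = b) {φ : Od n R a ⟶ Od n R b}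
    (f : ↥(homogeneousSubmodule (Fin (n + 1)) R e))
    (hφ : ∀ (i : Fin (n + 1)) (g : Γ(Od n R a, Dm (ch1 i))),
      psi (degree_qa_pos (fun _ : Fin 1 => i)) ((φ.app (Dm (ch1 i))).hom g) =
        toL n R f.1 * psi (degree_qa_pos (fun _ : Fin 1 => i)) g) : φ = mulHom f hab :=
  hom_ext_gen fun i g _ => @psi_injective n R _ b (ch1 i) (degree_qa_pos (fun _ : Fin 1 => i)) _ _
    (Eq.trans (hφ i g)
      (@psi_mulHom n R _ a b e f hab (ch1 i) (degree_qa_pos (fun _ : Fin 1 => i)) g).symm)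

/-- Every morphism `O(a) ⟶ O(a + e)` is multiplication by a form of degree `e`. -/
theorem exists_eq_mulHom {a b : ℤ} {e : ℕ} (hab : a + e = b) (φ : Od n R a ⟶ Od n R b) :
    ∃ f, φ = mulHom f hab := by
  obtain ⟨h, hmem, hφ⟩ := exists_laurent φ
  have he : b - a = (e : ℤ) := by omega
  rw [he] at hmem
  obtain ⟨f, rfl⟩ := exists_homog (mem_allowedSub_empty hmem)
  exact ⟨f, eq_mulHom_of hab f hφ⟩

end Groth.Agent.H29Serre
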