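import Groth.Agent.H29Serre.MulHom
import Groth.Prelude.Def_Canon

/-!
# The residue pairing on projective space
-/

set_option autoImplicit false

universe u

open CategoryTheory CategoryTheory.Limits AlgebraicGeometry TopologicalSpace Opposite MvPolynomial
open Groth.Agent.H15Site Groth.Agent.H11Tilde Groth.Agent.H10Coh Groth.Agent.H10Coh.Pn

namespace Groth.Agent.H29Serre

attribute [local instance 10000] hasSheafifyAb hasWeakSheafifyAb hasExtAb enoughInjAb

variable {n p : ℕ} {R : Type u} [CommRing R]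

noncomputable local instance overProj (n : ℕ) (R : Type u) [CommRing R] :
    (Proj (Gr n R)).Over (Spec (CommRingCat.of R)) := ⟨toS n R⟩

theorem badPart_eq_self {d : ℤ} (z : ↥(badSub R d n)) : badPart R z.1 = z.1 := by
  classical
  refine AddMonoidAlgebra.ext (Finsupp.ext fun e => ?_)
  rw [badPart_coeff]
  split_ifs with h
  · rfl
  · by_contra h'
    exact h (z.2 e (Ne.symm h')).1

theorem badPart_add (z w : L n R) : badPart R (z + w) = badPart R z + badPart R w := by
  classical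
  refine AddMonoidAlgebra.ext (Finsupp.ext fun e => ?_)
  simp only [badPart_coeff, AddMonoidAlgebra.coeff_add, Finsupp.add_apply]
  split_ifs <;> simp

theorem badPart_toL_mul (f : MvPolynomial (Fin (n + 1)) R) (z : L n R) :
    badPart R (toL n R f * badPart R z) = badPart R (toL n R f * z) := by
  classical
  induction f using MvPolynomial.induction_on' with
  | monomial q r =>
    refine AddMonoidAlgebra.ext (Finsupp.ext fun e => ?_)
    rw [badPart_coeff, badPart_coeff, toL_monomial]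
    split_ifs with he
    · obtain ⟨e', rfl⟩ : ∃ e', e = castE n q + e' := ⟨e - castE n q, by abel⟩
      rw [AddMonoidAlgebra.coeff_single_mul_add, AddMonoidAlgebra.coeff_single_mul_add, badPart_coeff, if_pos]
      intro i
      have := he i
      rw [Finsupp.add_apply, castE_apply] at this
      omega
    · rfl
  | add p q hp hq => rw [map_add, add_mul, add_mul, badPart_add, badPart_add, hp, hq]

theorem psi_res_mulHom {a b : ℤ} {e : ℕ} (f : ↥(homogeneousSubmodule (Fin (n + 1)) R e)) (h : a + e = b)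
    {q₀ : Fin (n + 1) →₀ ℕ} (hpos : 0 < q₀.degree) {U : (Proj (Gr n R)).Opens} (hU : Dm (R := R) q₀ ≤ U)
    (σ : Γ(Od n R a, U)) :
    psi hpos ((Od n R b).presheaf.map (homOfLE hU).op (((mulHom f h).app U).hom σ)) =
      toL n R f.1 * psi hpos ((Od n R a).presheaf.map (homOfLE hU).op σ) :=
  (congrArg (psi hpos) (app_res (mulHom f h) hU σ).symm).trans
    (@psi_mulHom n R _ a b e f h q₀ hpos ((Od n R a).presheaf.map (homOfLE hU).op σ))

theorem psiA_mulHom {a b : ℤ} {e q : ℕ} (f : ↥(homogeneousSubmodule (Fin (n + 1)) R e)) (h : a + e = b)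
    (v : Fin (q + 1) → ULift.{u} (Fin (n + 1)))
    (σ : (Od n R a).presheaf.obj (op (CechTop.cap (X := (Proj (Gr n R)).toTopCat) (Us n R) v))) :
    psiA v (((mulHom f h).app (CechTop.cap (X := (Proj (Gr n R)).toTopCat) (Us n R) v)).hom σ) = toL n R f.1 * psiA v σ :=
  @psi_res_mulHom n R _ a b e f h (qa (ULift.down ∘ v)) (degree_qa_pos (ULift.down ∘ v)) _ (Dm_qa v).le σ

theorem psiG_mulHom {a b : ℤ} {e : ℕ} (f : ↥(homogeneousSubmodule (Fin (n + 1)) R e)) (h : a + e = b)
    (σ : Γ(Od n R a, ⊤)) : psiG (((mulHom f h).app ⊤).hom σ) = toL n R f.1 * psiG σ :=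
  @psi_res_mulHom n R _ a b e f h (qa (fun _ : Fin 1 => (0 : Fin (n + 1)))) (degree_qa_pos (fun _ : Fin 1 => (0 : Fin (n + 1)))) ⊤ le_top σ

theorem shF_app {a b : ℤ} (φ : Od n R a ⟶ Od n R b) (W : (Proj (Gr n R)).Opens) (σ : Γ(Od n R a, W)) :
    (((shF (Proj (Gr n R))).map φ).hom.app (op W)).hom σ = (φ.app W).hom σ := rfl

theorem coef_mapZ_of {a b : ℤ} (φ : Od n R a ⟶ Od n R b) (w : L n R)
    (v : Fin (p + 2) → ULift.{u} (Fin (n + 1)))
    (hφ : ∀ σ, psiA v ((φ.app (CechTop.cap (X := (Proj (Gr n R)).toTopCat) (Us n R) v)).hom σ) = w * psiA v σ)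
    (z : CechCls.Zc (X := (Proj (Gr n R)).toTopCat) (Us n R) (Od n R a).presheaf p) :
    coef v (CechCls.mapZ (Us n R) (Od n R a).presheaf ((shF (Proj (Gr n R))).map φ).hom p z).1 =
      w * coef v z.1 :=
  (congrArg (psiA v) ((CechTop.proj_mapC (Us n R) (Od n R a).presheaf
    ((shF (Proj (Gr n R))).map φ).hom z.1 v).trans (shF_app φ _ _))).trans (hφ _)

theorem HHtopBad_natural_of {a b : ℤ} (φ : Od (p + 1) R a ⟶ Od (p + 1) R b) (w : L (p + 1) R)
    (hw : ∀ z, badPart R (w * badPart R z) = badPart R (w * z))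
    (hφ : ∀ (v : Fin (p + 2) → ULift.{u} (Fin (p + 1 + 1))) σ,
      psiA v ((φ.app (CechTop.cap (X := (Proj (Gr (p + 1) R)).toTopCat) (Us (p + 1) R) v)).hom σ) = w * psiA v σ)
    (x : Coh.HH (Proj (Gr (p + 1) R)) (Od (p + 1) R a) (p + 1)) :
    (HHtopBad p R b (Canon.HHlin R φ (p + 1) x)).1 = badPart R (w * (HHtopBad p R a x).1) := by
  let ψ : sh (Od (p + 1) R a) ⟶ sh (Od (p + 1) R b) := (shF (Proj (Gr (p + 1) R))).map φ
  change (topEquivBad p R b (topEquiv _ (p + 1) (Sheaf.H.map ψ (p + 1) x))).1 =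
    badPart R (w * (topEquivBad p R a (topEquiv _ (p + 1) x)).1)
  refine (congrArg (fun u => (topEquivBad p R b u).1)
    ((topEquiv_map ψ (p + 1) x).trans (LerayNat.hmap_apply _ _ _ _).symm)).trans ?_
  obtain ⟨y, hy⟩ := ((lerayPn (p + 1) (p + 1) R).e (sh (Od (p + 1) R a)) (acy_Od R a)).surjective
    (topEquiv (sh (Od (p + 1) R a)) (p + 1) x)
  rw [← hy, ← (lerayPn (p + 1) (p + 1) R).nat ψ (acy_Od R a) (acy_Od R b) y, topEquivBad_e, topEquivBad_e]
  obtain ⟨z, rfl⟩ := CechCls.cls_surjective (X := (Proj (Gr (p + 1) R)).toTopCat) (Us (p + 1) R)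
    (Od (p + 1) R a).presheaf p y
  refine (congrArg Subtype.val ((congrArg (clsToBad p R b) (CechCls.cls_mapZ (Us (p + 1) R)
    (Od (p + 1) R a).presheaf ψ.hom p z)).trans (clsToBad_cls p R b _))).trans ?_
  rw [clsToBad_cls]
  change badPart R (coef (idT p) _) = badPart R (w * badPart R (coef (idT p) z.1))
  rw [hw, coef_mapZ_of φ w (idT p) (hφ _) z]

theorem psiG_HH0_of {a b : ℤ} (φ : Od n R a ⟶ Od n R b) (w : L n R)
    (hφ : ∀ σ, psiG ((φ.app ⊤).hom σ) = w * psiG σ) (x : Coh.HH (Proj (Gr n R)) (Od n R a) 0) :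
    psiG (HH0Equiv (Od n R b) (Canon.HHlin R φ 0 x)) = w * psiG (HH0Equiv (Od n R a) x) := by
  refine (congrArg psiG ?_).trans (hφ _)
  change H0Equiv _ ⊤ (topEquiv _ 0 (Sheaf.H.map ((shF _).map φ) 0 x)) = _
  refine (congrArg (H0Equiv _ ⊤) (topEquiv_map ((shF _).map φ) 0 x)).trans ?_
  refine (H0Equiv_map _ _).trans ?_
  exact shF_app φ ⊤ _

/-- Top cohomology as residues, on `P^(q+1)`. -/
noncomputable def topSucc (q : ℕ) (R : Type u) [CommRing R] (d : ℤ) :
    Coh.HH (Proj (Gr (q + 1) R)) (Od (q + 1) R d) (q + 1) ≃ₗ[R] ↥(badSub R d (q + 1)) :=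
  LinearEquiv.ofBijective (HHtopBad q R d) (HHtopBad_bijective q R d)

/-- Top cohomology as residues, on `P^0`. -/
noncomputable def topZero (R : Type u) [CommRing R] (d : ℤ) (hd : d < 0) :
    Coh.HH (Proj (Gr 0 R)) (Od 0 R d) 0 ≃ₗ[R] ↥(badSub R d 0) :=
  LinearEquiv.ofBijective (HHzeroBad R d hd) (HHzeroBad_bijective R d hd)

theorem topSucc_val (q : ℕ) (d : ℤ) (x : Coh.HH (Proj (Gr (q + 1) R)) (Od (q + 1) R d) (q + 1)) :
    (topSucc q R d x).1 = (HHtopBad q R d x).1 := by
  unfold topSucc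
  rw [LinearEquiv.ofBijective_apply]

theorem topZero_val (d : ℤ) (hd : d < 0) (x : Coh.HH (Proj (Gr 0 R)) (Od 0 R d) 0) :
    (topZero R d hd x).1 = psiG (HH0Equiv (Od 0 R d) x) := by
  unfold topZero
  rw [LinearEquiv.ofBijective_apply]
  rfl

/-- Residue isomorphisms in top degree, natural for multiplication by forms. -/
theorem exists_topRes (n : ℕ) (R : Type u) [CommRing R] :
    ∃ r : ∀ d : ℤ, d ≤ -((n : ℤ) + 1) → (Coh.HH (Proj (Gr n R)) (Od n R d) n ≃ₗ[R] ↥(badSub R d n)),
      ∀ {a b : ℤ} (φ : Od n R a ⟶ Od n R b) (w : L n R) (ha : a ≤ -((n : ℤ) + 1)) (hb : b ≤ -((n : ℤ) + 1))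
        (_hw : ∀ z, badPart R (w * badPart R z) = badPart R (w * z))
        (_hψ : ∀ σ, psiG ((φ.app ⊤).hom σ) = w * psiG σ)
        (_hφ : ∀ (q : ℕ) (v : Fin (q + 1) → ULift.{u} (Fin (n + 1))) σ,
          psiA v ((φ.app (CechTop.cap (X := (Proj (Gr n R)).toTopCat) (Us n R) v)).hom σ) = w * psiA v σ)
        (x : Coh.HH (Proj (Gr n R)) (Od n R a) n),
        (r b hb (Canon.HHlin R φ n x)).1 = badPart R (w * (r a ha x).1) := by
  cases n with
  | zero =>
    refine ⟨fun d hd => topZero R d (by omega), fun {a b} φ w ha hb _ hψ _ x => ?_⟩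
    refine (badPart_eq_self _).symm.trans (congrArg (badPart R) ?_)
    rw [topZero_val, topZero_val]
    exact psiG_HH0_of φ w hψ x
  | succ q =>
    refine ⟨fun d _ => topSucc q R d, fun {a b} φ w ha hb hw _ hφ x => ?_⟩
    rw [topSucc_val, topSucc_val]
    exact HHtopBad_natural_of φ w hw (fun v σ => hφ (q + 1) v σ) x

/-- Top cohomology as residues, in degrees `≤ -n-1`. -/
noncomputable def topRes (n : ℕ) (R : Type u) [CommRing R] :
    ∀ d : ℤ, d ≤ -((n : ℤ) + 1) → (Coh.HH (Proj (Gr n R)) (Od n R d) n ≃ₗ[R] ↥(badSub R d n)) :=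
  (exists_topRes n R).choose

theorem topRes_natural {a b : ℤ} {e : ℕ} (f : ↥(homogeneousSubmodule (Fin (n + 1)) R e))
    (h : a + e = b) (ha : a ≤ -((n : ℤ) + 1)) (hb : b ≤ -((n : ℤ) + 1))
    (x : Coh.HH (Proj (Gr n R)) (Od n R a) n) :
    (topRes n R b hb (Canon.HHlin R (mulHom f h) n x)).1 = badPart R (toL n R f.1 * (topRes n R a ha x).1) :=
  (exists_topRes n R).choose_spec (a := a) (b := b) (mulHom f h) (toL n R f.1) ha hb (fun z => badPart_toL_mul f.1 z)
    (fun σ => @psiG_mulHom n R _ a b e f h σ) (fun q v σ => @psiA_mulHom n R _ a b e q f h v σ) x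

/-- The trace `H^n(O(-n-1)) → R`. -/
noncomputable def trace (n : ℕ) (R : Type u) [CommRing R] :
    Coh.HH (Proj (Gr n R)) (Od n R (-((n : ℤ) + 1))) n →ₗ[R] R where
  toFun x := (topRes n R _ le_rfl x).1.coeff (negShift n 0)
  map_add' x y := by rw [map_add, Submodule.coe_add, AddMonoidAlgebra.coeff_add, Finsupp.add_apply]
  map_smul' r x := by
    rw [map_smul, Submodule.coe_smul, AddMonoidAlgebra.coeff_smul, Finsupp.smul_apply, RingHom.id_apply]

theorem negShift_zero (n : ℕ) (q : Fin (n + 1) →₀ ℕ) : negShift n 0 = castE n q + negShift n q := by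
  refine Finsupp.ext fun i => ?_
  simp [negShift, castE_apply]
  ring

/-- The twist paired with forms of degree `m`. -/
abbrev tw (n m : ℕ) : ℤ := -((n : ℤ) + 1 + m)

theorem tw_le (n m : ℕ) : tw n m ≤ -((n : ℤ) + 1) := by unfold tw; omega

theorem tw_add (n m : ℕ) : tw n m + m = -((n : ℤ) + 1) := by unfold tw; ring

/-- The monomial `q` as a homogeneous form. -/
noncomputable def monH {m : ℕ} (q : Fin (n + 1) →₀ ℕ) (hq : q.degree = m) :
    ↥(homogeneousSubmodule (Fin (n + 1)) R m) :=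
  ⟨monomial q 1, isHomogeneous_monomial 1 hq⟩

/-- The class dual to a monomial. -/
noncomputable def dualCls {m : ℕ} (q : Fin (n + 1) →₀ ℕ) (hq : q.degree = m) :
    Coh.HH (Proj (Gr n R)) (Od n R (tw n m)) n :=
  (topRes n R _ (tw_le n m)).symm (homToBad n m (monH q hq))

theorem trace_mulHom {m : ℕ} (f : ↥(homogeneousSubmodule (Fin (n + 1)) R m)) (q : Fin (n + 1) →₀ ℕ)
    (hq : q.degree = m) :
    trace n R (Canon.HHlin R (mulHom f (tw_add n m)) n (dualCls q hq)) = MvPolynomial.coeff q f.1 := by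
  classical
  change (topRes n R _ le_rfl (Canon.HHlin R (mulHom f (tw_add n m)) n _)).1.coeff (negShift n 0) = _
  rw [topRes_natural f (tw_add n m) (tw_le n m) le_rfl, dualCls, LinearEquiv.apply_symm_apply, badPart_coeff,
    if_pos (show Bad (negShift n 0) from fun i => by simp [negShift])]
  change (toL n R f.1 * AddMonoidAlgebra.ofCoeff (Finsupp.mapDomain (negShift n)
    (AddMonoidAlgebra.coeff (monomial q (1 : R))))).coeff (negShift n 0) = _
  rw [show AddMonoidAlgebra.ofCoeff (Finsupp.mapDomain (negShift n)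
      (AddMonoidAlgebra.coeff (monomial q (1 : R)))) = (T (negShift n q) : L n R) from
    AddMonoidAlgebra.ext ((Finsupp.mapDomain_single).trans rfl)]
  rw [negShift_zero n q, T, AddMonoidAlgebra.coeff_mul_single_add, mul_one]
  exact Finsupp.mapDomain_apply (castE_injective n) _ q

theorem hom_ext_dualCls {m : ℕ} {N : Type*} [AddCommGroup N] [Module R N]
    {u v : Coh.HH (Proj (Gr n R)) (Od n R (tw n m)) n →ₗ[R] N}
    (h : ∀ q hq, u (dualCls q hq) = v (dualCls q hq)) : u = v := by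
  refine LinearMap.ext fun x => ?_
  obtain ⟨f, hf⟩ := (homToBad_bijective n m).2 (topRes n R _ (tw_le n m) x)
  have hx : x = (topRes n R _ (tw_le n m)).symm (homToBad n m f) := by rw [hf, LinearEquiv.symm_apply_apply]
  rw [hx]
  let w : ↥(homogeneousSubmodule (Fin (n + 1)) R m) →ₗ[R] Coh.HH (Proj (Gr n R)) (Od n R (tw n m)) n :=
    (topRes n R _ (tw_le n m)).symm.toLinearMap ∘ₗ homToBad n m
  change u (w f) = v (w f)
  have hdeg : ∀ q ∈ f.1.support, q.degree = m := fun q hq => by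
    rw [Finsupp.degree_eq_weight_one]
    exact f.2 (mem_support_iff.1 hq)
  have hsum : f = ∑ q ∈ f.1.support.attach, MvPolynomial.coeff q.1 f.1 • monH (R := R) q.1 (hdeg q.1 q.2) := by
    refine Subtype.ext ?_
    rw [Submodule.coe_sum]
    simp only [Submodule.coe_smul, monH, smul_monomial, smul_eq_mul, mul_one]
    rw [Finset.sum_attach f.1.support fun q => monomial q (MvPolynomial.coeff q f.1)]
    exact f.1.as_sum
  rw [hsum, map_sum, map_sum, map_sum]
  refine Finset.sum_congr rfl fun q _ => ?_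
  rw [map_smul, map_smul, map_smul]
  exact congrArg _ (h q.1 (hdeg q.1 q.2))

/-- The residue pairing is perfect. -/
theorem existsUnique_pairing {m : ℕ} (ψ : Coh.HH (Proj (Gr n R)) (Od n R (tw n m)) n →ₗ[R] R) :
    ∃! φ : Od n R (tw n m) ⟶ Od n R (-((n : ℤ) + 1)), ψ = trace n R ∘ₗ Canon.HHlin R φ n := by
  classical
  let S : Finset (Fin (n + 1) →₀ ℕ) := Finset.finsuppAntidiag Finset.univ m
  have hS : ∀ q, q ∈ S ↔ q.degree = m := fun q => by
    simp [S, Finset.mem_finsuppAntidiag, Finsupp.degree_eq_sum]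
  let f : ↥(homogeneousSubmodule (Fin (n + 1)) R m) :=
    ∑ q ∈ S.attach, ψ (dualCls q.1 ((hS q.1).1 q.2)) • monH q.1 ((hS q.1).1 q.2)
  have hf : ∀ q hq, MvPolynomial.coeff q f.1 = ψ (dualCls q hq) := by
    intro q hq
    simp only [f, Submodule.coe_sum, Submodule.coe_smul, monH, coeff_sum, coeff_smul, coeff_monomial,
      smul_eq_mul, mul_ite, mul_one, mul_zero]
    rw [Finset.sum_eq_single ⟨q, (hS q).2 hq⟩ (fun b _ hb => if_neg fun h => hb (Subtype.ext h))
      (fun h => (h (Finset.mem_attach _ _)).elim), if_pos rfl]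
  refine ⟨mulHom f (tw_add n m), hom_ext_dualCls fun q hq => ((trace_mulHom f q hq).trans (hf q hq)).symm, ?_⟩
  intro φ hφ
  obtain ⟨g, rfl⟩ := exists_eq_mulHom (tw_add n m) φ
  have : g = f := by
    refine Subtype.ext (MvPolynomial.ext _ _ fun q => ?_)
    by_cases hq : q.degree = m
    · rw [hf q hq, hφ]
      exact (trace_mulHom g q hq).symm
    · rw [(g.2 : MvPolynomial.IsHomogeneous g.1 m).coeff_eq_zero hq,
        (f.2 : MvPolynomial.IsHomogeneous f.1 m).coeff_eq_zero hq]
  rw [this]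

end Groth.Agent.H29Serre

namespace Groth.Agent.H29Serre

variable {n : ℕ} {R : Type u} [CommRing R]

/-- The coefficient of `x^(-1,…,-1)`. -/
noncomputable def coeffBot (n : ℕ) (R : Type u) [CommRing R] :
    ↥(badSub R (-((n : ℤ) + 1)) n) →ₗ[R] R where
  toFun z := z.1.coeff (negShift n 0)
  map_add' x y := by rw [Submodule.coe_add, AddMonoidAlgebra.coeff_add, Finsupp.add_apply]
  map_smul' r x := by
    rw [Submodule.coe_smul, AddMonoidAlgebra.coeff_smul, Finsupp.smul_apply, RingHom.id_apply]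

theorem coeffBot_bijective (n : ℕ) (R : Type u) [CommRing R] : Function.Bijective (coeffBot n R) := by
  classical
  have key : ∀ (z : ↥(badSub R (-((n : ℤ) + 1)) n)) (e : Expo n), z.1.coeff e ≠ 0 → e = negShift n 0 := by
    intro z e he
    obtain ⟨hb, hd⟩ := z.2 e he
    have hsum : ∑ i, (-1 - e i) = 0 := by
      have hd' : ∑ i, e i = -((n : ℤ) + 1) := hd
      rw [Finset.sum_sub_distrib, hd']
      simp
    refine Finsupp.ext fun i => ?_
    have := (Finset.sum_eq_zero_iff_of_nonneg (fun j _ => by have := hb j; omega)).1 hsum i (Finset.mem_univ i)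
    simp [negShift]
    omega
  refine ⟨fun z w h => Subtype.ext (AddMonoidAlgebra.ext (Finsupp.ext fun e => ?_)),
    fun r => ⟨⟨AddMonoidAlgebra.single (negShift n 0) r, fun e he => ?_⟩, ?_⟩⟩
  · by_cases he : e = negShift n 0
    · subst he
      exact h
    · rw [show z.1.coeff e = 0 from not_not.1 fun h' => he (key z e h'),
        show w.1.coeff e = 0 from not_not.1 fun h' => he (key w e h')]
  · obtain rfl : e = negShift n 0 := by
      by_contra hne
      exact he (by simp [Ne.symm hne, hne])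
    exact ⟨fun i => by simp [negShift], by rw [deg_negShift]; simp⟩
  · simp [coeffBot]

/-- On `P^n`, `n ≥ 1`, there are no nonzero morphisms lowering the degree. -/
theorem eq_zero_of_deg_lt (hn : 1 ≤ n) {a b : ℤ} (h : b < a) (φ : Od n R a ⟶ Od n R b) : φ = 0 := by
  obtain ⟨w, hmem, hφ⟩ := exists_laurent φ
  have hw : w = 0 := by
    refine AddMonoidAlgebra.ext (Finsupp.ext fun e => ?_)
    by_contra hne
    have hpos : ∀ j, 0 ≤ e j := fun j => by
      obtain ⟨k, hk⟩ : ∃ k : Fin (n + 1), k ≠ j := by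
        refine Fintype.exists_ne_of_one_lt_card ?_ j
        simp only [Fintype.card_fin]
        omega
      exact (hmem k e hne).2 j (Ne.symm hk)
    have hd : ∑ i, e i = b - a := (hmem 0 e hne).1
    have := Finset.sum_nonneg (s := Finset.univ) fun i _ => hpos i
    omega
  refine hom_ext_gen fun i g _ => psi_injective (degree_qa_pos (fun _ : Fin 1 => i)) ?_
  rw [hφ i g, hw, zero_mul]
  exact (map_zero (psi (R := R) (d := b) (degree_qa_pos (fun _ : Fin 1 => i)))).symm

end Groth.Agent.H29Serre
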